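import Groth.Agent.EssDimFibLib.Trdeg
import Groth.Agent.ASp.DecentQS
import Groth.Agent.ASt.Rep
import Groth.Prelude.Def_EssDim

/-! Essential dimension along representable morphisms of bounded fibre dimension. -/

set_option autoImplicit false
set_option backward.isDefEq.respectTransparency false
set_option backward.isDefEq.respectTransparency.types false
set_option maxHeartbeats 1600000
set_option linter.style.haveILetI false

universe u v w

open CategoryTheory CategoryTheory.Limits Opposite AlgebraicGeometry AlgSp EssDim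

noncomputable section

namespace Groth.Agent.EssDimFibLib

open Groth.Agent.ASt

theorem trdeg_tower_le {k K E : Type u} [Field k] [Field K] [Field E] [Algebra k K] [Algebra K E] [Algebra k E]
    [IsScalarTower k K E] {d : Cardinal.{u}} (h : Algebra.trdeg K E ≤ d) :
    Algebra.trdeg k E ≤ Algebra.trdeg k K + d :=
  (trdeg_add_eq k K (A := E)).symm.trans_le (by gcongr)

variable {k : Type u} [Field k]

theorem edStAt_le {𝒳 𝒴 : AlgSt.Cat (Spec (CommRingCat.of k))} [FibCat.IsFibGrpd 𝒳.p] [FibCat.IsFibGrpd 𝒴.p]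
    (F : 𝒳 ⥤ᵇ 𝒴) (d : ℕ)
    (hF : AlgSt.RepByAlgSpWith
      (AlgSp.LocP @LocallyOfFiniteType ⊓ AlgSp.IsQuasiSeparatedMor ⊓ fun _ _ g => CurvSt.RelDimLE d g) F)
    {L : Type u} [Field L] [Algebra k L] (x : StkCnt.pts 𝒳 L) :
    EssDim.edStAt 𝒳 x ≤ EssDim.edStAt 𝒴 ⟨F.obj x.1, (F.w_obj x.1).trans x.2⟩ + d := by
  haveI : Nonempty {K : IntermediateField k L //
      Descends (Gerb.isoClPsh 𝒴) (Quot.mk (Gerb.IsoRel 𝒴 (SGA7.pt (K := k) L)) ⟨F.obj x.1, (F.w_obj x.1).trans x.2⟩) K} :=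
    ⟨⟨⊤, descends_top _⟩⟩
  rw [edStAt, edStAt, edAt, edAt, ENat.iInf_add]
  refine le_iInf fun K => ?_
  obtain ⟨K, hK⟩ := K
  obtain ⟨y₀, φ, hφl⟩ := (descends_isoCl_iff 𝒴 _ K).1 hK
  -- the space of lifts
  let U : Over (Spec (CommRingCat.of k)) := SGA7.pt (K := k) K
  let w : FibCat.overCat U ⥤ᵇ 𝒴 := objFun y₀.1 y₀.2
  obtain ⟨Z, e, he, ⟨hlft, hqs⟩, hdim⟩ := hF U w
  set f := AlgSt.spMapOfOver (BasedFunctor.comp e (FibCat.fpFst w F))
  haveI := isAlgSpace_of_isFibGrpd_ofSp Z.obj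
  haveI : FibCat.IsFibGrpd (FibCat.fp w F).p := isFibGrpd_of_isEquivOver he
  let r : SGA7.pt (K := k) L ⟶ U := resPt K.val
  have hpi := map_pullHom y₀.1 y₀.2 r
  have hφm : 𝒴.p.map φ = eqToHom ((F.w_obj x.1).trans x.2) ≫ r ≫ eqToHom y₀.2.symm :=
    IsHomLift.fac' 𝒴.p r φ
  let χ : w.obj (ov r) ⟶ F.obj x.1 := facMap φ (pullHom y₀.1 y₀.2 r)
    (eqToHom ((pull_base y₀.1 y₀.2 r).trans ((F.w_obj x.1).trans x.2).symm)) (by simp [hφm, hpi])
  have hχ : 𝒴.p.map χ = eqToHom (((w.w_obj (ov r)).trans (ov_base r)).trans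
      (x.2.symm.trans (F.w_obj x.1).symm)) := map_facMap _ _ _ _
  obtain ⟨c₀, hc₀⟩ := (bijective_clF_of_isEquivOver he (SGA7.pt (K := k) L)).2 (fpEl r x.1 x.2 χ hχ)
  obtain ⟨a, ha, rfl⟩ := cl_exists c₀
  obtain ⟨T, z⟩ := a
  obtain rfl : T = SGA7.pt (K := k) L := ha
  rw [clF_cl] at hc₀
  obtain ⟨m, hm⟩ := cl_eq_iff.1 hc₀.symm
  -- the monomorphic point
  let q : FieldPt Z.obj := ⟨L, Spec.map (CommRingCat.ofHom (algebraMap k L)), z⟩
  have hdec : IsDecent Z.obj := ASp.isDecent_of_qs Z.property f hqs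
  obtain ⟨p, hp, hpm, -⟩ := hdec (Points.mk q)
  obtain ⟨c, hc⟩ := ASp.factor_of_mono Z.property p q hp
  have hcz : Z.obj.obj.map c.op p.val = z := by
    have h2 := congrArg (AlgSp.J (Spec (CommRingCat.of k))).uliftYonedaEquiv.{u+1} hc
    rw [← GrothendieckTopology.uliftYonedaEquiv_naturality.{u+1}, FieldPt.uliftYonedaEquiv_toHom,
      FieldPt.uliftYonedaEquiv_toHom] at h2
    exact h2
  let aq : (AlgSt.ofSp Z.obj).obj := ⟨SGA7.pt (K := k) L, z⟩
  let ap : (AlgSt.ofSp Z.obj).obj := ⟨p.pt, p.val⟩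
  let ψ : aq ⟶ ap := ⟨c, hcz⟩
  let gp : p.pt ⟶ U := AlgSt.secHom (BasedFunctor.comp e (FibCat.fpFst w F)) ap
  have hgp : p.toHom ≫ f = (AlgSp.yon _).map gp := by
    apply (AlgSp.J (Spec (CommRingCat.of k))).uliftYonedaEquiv.{u+1}.injective
    rw [GrothendieckTopology.uliftYonedaEquiv_comp.{u+1}, FieldPt.uliftYonedaEquiv_toHom]
    refine (AlgSt.spMapOfOver_app _ _ _).trans ?_
    rfl
  -- the residue field over `K`
  obtain ⟨g, hg⟩ : ∃ g : CommRingCat.of K ⟶ CommRingCat.of p.K, Spec.map g = gp.left :=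
    ⟨Spec.preimage gp.left, Spec.map_preimage gp.left⟩
  obtain ⟨s, hs⟩ : ∃ s : CommRingCat.of k ⟶ CommRingCat.of p.K, Spec.map s = p.str :=
    ⟨Spec.preimage p.str, Spec.map_preimage p.str⟩
  letI : Algebra k p.K := s.hom.toAlgebra
  letI : Algebra K p.K := g.hom.toAlgebra
  haveI : IsScalarTower k K p.K := IsScalarTower.of_algebraMap_eq fun t => by
    have h1 : gp.left ≫ Spec.map (CommRingCat.ofHom (algebraMap k K)) = p.str := Over.w gp
    rw [← hg, ← hs, ← Spec.map_comp] at h1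
    exact (congrArg (fun r => r.hom t) (Spec.map_injective h1)).symm
  haveI := hpm
  have htd : Algebra.trdeg K p.K ≤ (d : Cardinal.{u}) :=
    trdeg_point_le (K := K) Z.property f hlft d hdim p gp hgp hg.symm
  obtain ⟨cl', hcl'⟩ : ∃ c' : CommRingCat.of p.K ⟶ CommRingCat.of L, Spec.map c' = c.left :=
    ⟨Spec.preimage c.left, Spec.map_preimage c.left⟩
  let ι : p.K →ₐ[k] L :=
    { toRingHom := cl'.hom
      commutes' := fun t => by
        have h1 : c.left ≫ p.str = Spec.map (CommRingCat.ofHom (algebraMap k L)) := Over.w c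
        rw [← hcl', ← hs, ← Spec.map_comp] at h1
        exact congrArg (fun r => r.hom t) (Spec.map_injective h1) }
  let ε : p.K ≃ₐ[k] ι.fieldRange := AlgEquiv.ofInjectiveField ι
  -- the object over the residue field
  let x₀ : 𝒳.obj := (e.obj ap).obj.snd
  have hx₀ : 𝒳.p.obj x₀ = p.pt := (fp_snd_base (e.obj ap)).trans (e.w_obj ap)
  let φx : x.1 ⟶ x₀ := m.hom.snd ≫ (e.map ψ).hom.snd
  have hφx : 𝒳.p.map φx = eqToHom x.2 ≫ c ≫ eqToHom hx₀.symm := by
    have h1 : (FibCat.fp w F).p.map (e.map ψ) = eqToHom (e.w_obj aq) ≫ c ≫ eqToHom (e.w_obj ap).symm :=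
      map_w e ψ
    simp only [φx, Functor.map_comp]
    rw [fp_map_snd, fp_map_snd]
    erw [hm, h1]
    simp
  have hι : p.str = Spec.map (CommRingCat.ofHom (algebraMap k p.K)) := by
    rw [RingHom.algebraMap_toAlgebra, CommRingCat.ofHom_hom, hs]
  let i : SGA7.pt (K := k) ι.fieldRange ⟶ p.pt :=
    Over.homMk (Spec.map (CommRingCat.ofHom (ε : p.K →+* ι.fieldRange))) (by
      change Spec.map _ ≫ p.str = Spec.map _
      rw [hι, ← Spec.map_comp, ← CommRingCat.ofHom_comp]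
      congr 2
      exact RingHom.ext fun t => ε.commutes t)
  have hri : resPt (ι.fieldRange).val ≫ i = c := by
    apply Over.OverMorphism.ext
    show Spec.map _ ≫ Spec.map _ = c.left
    rw [← hcl', ← Spec.map_comp]
    congr 1
  let φ' : x.1 ⟶ pull x₀ hx₀ i := facMap (pullHom x₀ hx₀ i) φx
    (eqToHom x.2 ≫ resPt (ι.fieldRange).val ≫ eqToHom (pull_base x₀ hx₀ i).symm)
    (by rw [hφx, map_pullHom]; simp [reassoc_of% hri])
  have hlift : 𝒳.p.IsHomLift (resPt (ι.fieldRange).val) φ' :=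
    IsHomLift.of_fac' _ _ _ x.2 (pull_base x₀ hx₀ i) (by simp [φ'])
  refine (iInf_le _ ⟨ι.fieldRange, (descends_isoCl_iff 𝒳 x ι.fieldRange).2
    ⟨⟨pull x₀ hx₀ i, pull_base x₀ hx₀ i⟩, φ', hlift⟩⟩).trans ?_
  rw [← ε.trdeg_eq]
  refine le_trans (OrderHomClass.mono Cardinal.toENat (trdeg_tower_le (k := k) (K := K) htd)) ?_
  rw [map_add, map_natCast]

/-- The bound on the stacks. -/
theorem edSt_le {𝒳 𝒴 : AlgSt.Cat (Spec (CommRingCat.of k))} [FibCat.IsFibGrpd 𝒳.p] [FibCat.IsFibGrpd 𝒴.p]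
    (F : 𝒳 ⥤ᵇ 𝒴) (d : ℕ)
    (hF : AlgSt.RepByAlgSpWith
      (AlgSp.LocP @LocallyOfFiniteType ⊓ AlgSp.IsQuasiSeparatedMor ⊓ fun _ _ g => CurvSt.RelDimLE d g) F) :
    EssDim.edSt 𝒳 ≤ EssDim.edSt 𝒴 + ((d : ℕ) : WithBot ℕ∞) := by
  refine iSup_le fun L => iSup_le fun _ => iSup_le fun _ => iSup_le fun ξ => ?_
  induction ξ using Quot.ind with
  | mk x =>
  refine le_trans (WithBot.coe_le_coe.2 (edStAt_le F d hF x)) ?_
  rw [WithBot.coe_add]
  refine add_le_add ?_ le_rfl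
  exact edAt_le_ed (P := Gerb.isoClPsh 𝒴) (L := L)
    (Quot.mk _ (⟨F.obj x.1, (F.w_obj x.1).trans x.2⟩ : StkCnt.pts 𝒴 L))

end Groth.Agent.EssDimFibLib
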