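import Groth.Agent.ASp.TrdegChart
import Groth.Agent.ASp.DecentPt
import Groth.Agent.DimFormulaLib.Converse
import Groth.Prelude.Def_StCurv2

/-! The residue field of a point of a space of relative dimension at most `d` over a field. -/

set_option autoImplicit false
set_option backward.isDefEq.respectTransparency false
set_option maxHeartbeats 1600000
set_option linter.style.haveILetI false

universe u

open CategoryTheory CategoryTheory.Limits Opposite AlgebraicGeometry AlgSp

noncomputable section

namespace Groth.Agent.EssDimFibLib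

open Groth.Agent.ASp

variable {S : Scheme.{u}}

theorem trdeg_le_of_comp {K E κ K' : Type u} [Field K] [Field E] [Field κ] [Field K'] [Algebra K E] [Algebra K' κ]
    (e : E →+* κ) (i : K →+* K') (hi : Function.Bijective i)
    (h : ∀ r, algebraMap K' κ (i r) = e (algebraMap K E r)) {d : Cardinal.{u}} (hd : Algebra.trdeg K' κ ≤ d) :
    Algebra.trdeg K E ≤ d := by
  letI : Algebra K κ := (e.comp (algebraMap K E)).toAlgebra
  let eA : E →ₐ[K] κ := { toRingHom := e, commutes' := fun _ => rfl }
  refine (trdeg_le_of_injective eA e.injective).trans (le_of_eq_of_le ?_ hd)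
  exact DimFormulaLib.trdeg_eq_of_ringEquiv (RingEquiv.ofBijective i hi) (RingEquiv.refl κ) fun r => h r

theorem trdeg_le_of_spec {K E : Type u} [Field K] [Field E] [Algebra K E] {U : Scheme.{u}} (u : ↥U)
    (g : U ⟶ Spec (CommRingCat.of K)) (c : Spec (U.residueField u) ⟶ Spec (CommRingCat.of E))
    (h : c ≫ Spec.map (CommRingCat.ofHom (algebraMap K E)) = U.fromSpecResidueField u ≫ g)
    {d : Cardinal.{u}} (hd : Dual3.resTrdeg g u ≤ d) : Algebra.trdeg K E ≤ d := by
  obtain ⟨ψ, hψ⟩ : ∃ ψ, Spec.map ψ = (Spec (CommRingCat.of K)).fromSpecResidueField (g u) :=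
    ⟨Spec.preimage _, Spec.map_preimage _⟩
  letI : Algebra ((Spec (CommRingCat.of K)).residueField (g u)) (U.residueField u) :=
    (g.residueFieldMap u).hom.toAlgebra
  have hcomp : Spec.map (ψ ≫ g.residueFieldMap u) =
      Spec.map (CommRingCat.ofHom (algebraMap K E) ≫ Spec.preimage c) := by
    rw [Spec.map_comp, Spec.map_comp, Spec.map_preimage, hψ, h]
    exact Scheme.Hom.SpecMap_residueFieldMap_fromSpecResidueField g u
  have heq := Spec.map_injective hcomp
  have hsurj : Function.Surjective ψ.hom := by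
    have hψ' : ψ = CommRingCat.ofHom (algebraMap K (g u).asIdeal.ResidueField) ≫
        (Scheme.Spec.residueFieldIso (CommRingCat.of K) (g u)).inv := by
      apply Spec.map_injective
      rw [hψ, Spec.map_comp]
      exact (Scheme.Spec.map_residueFieldIso_inv_eq_fromSpecResidueField (R := CommRingCat.of K) (x := g u)).symm
    rw [hψ', CommRingCat.hom_comp, RingHom.coe_comp]
    haveI : (g u).asIdeal.IsMaximal := by rw [Ideal.eq_bot_of_prime (g u).asIdeal]; exact Ideal.bot_isMaximal
    exact ((Scheme.Spec.residueFieldIso (CommRingCat.of K) (g u)).symm.commRingCatIsoToRingEquiv.surjective).comp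
      (Ideal.algebraMap_residueField_surjective _)
  exact trdeg_le_of_comp (Spec.preimage c).hom ψ.hom ⟨ψ.hom.injective, hsurj⟩
    (fun r => congrArg (fun t => t.hom r) heq) hd

/-- A monomorphic point of a space of relative dimension at most `d` over a field has residue field of
transcendence degree at most `d`. -/
theorem trdeg_point_le {K : Type u} [Field K] {s : Spec (CommRingCat.of K) ⟶ S} {Z : Sp S} (hZ : IsAlgSpace Z)
    (f : Z ⟶ (yon S).obj (Over.mk s)) (hlft : LocP @LocallyOfFiniteType f) (d : ℕ) (hd : CurvSt.RelDimLE d f)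
    (p : FieldPt Z) [Mono p.toHom] (gp : p.pt ⟶ Over.mk s) (hgp : p.toHom ≫ f = (yon S).map gp)
    [Algebra K p.K] (halg : gp.left = Spec.map (CommRingCat.ofHom (algebraMap K p.K))) :
    Algebra.trdeg K p.K ≤ (d : Cardinal.{u}) := by
  obtain ⟨U, V, a, b, h, u, ha, hb, e, hu, hdim⟩ := hd (Points.mk p)
  obtain ⟨b₀, rfl⟩ := (yon S).map_surjective b
  have hid : RepWith @Etale (𝟙 ((yon S).obj (Over.mk s))) := repWith_id (P := @Etale) _
  have e' : a ≫ f = (yon S).map (h ≫ b₀) ≫ 𝟙 _ := by rw [Category.comp_id, (yon S).map_comp]; exact e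
  haveI : LocallyOfFiniteType h.left := hlft a _ h ha hb e
  obtain ⟨a₁, t, -, ht, hfd⟩ := exists_fibre_dims h.left u
  have htd : Dual3.resTrdeg h.left u ≤ (d : Cardinal.{u}) := by
    rw [ht]
    rw [hfd] at hdim
    have : a₁ + t ≤ d := by exact_mod_cast hdim
    exact_mod_cast (le_add_self.trans this : t ≤ d)
  have hres : Dual3.resTrdeg (h ≫ b₀).left u ≤ (d : Cardinal.{u}) :=
    (resTrdeg_eq_of_charts ha hb e ha hid e' rfl).ge.trans htd
  obtain ⟨c, hc⟩ := factor_of_mono hZ p (FieldPt.ofPt a u) hu.symm
  have hc' : c ≫ gp = Over.homMk (U.left.fromSpecResidueField u) rfl ≫ h ≫ b₀ := by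
    apply (yon S).map_injective
    rw [(yon S).map_comp, ← hgp, ← Category.assoc, hc, FieldPt.toHom_ofPt, Category.assoc, e,
      (yon S).map_comp, (yon S).map_comp]
  refine trdeg_le_of_spec u (h ≫ b₀).left c.left ?_ hres
  rw [← halg]
  exact congrArg CommaMorphism.left hc'

end Groth.Agent.EssDimFibLib
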